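import Groth.Agent.NormalSec.Basic
import Groth.Agent.Curv2Norm.Birational
import Groth.Agent.AlgSpCov.IntegralDim
import Groth.Agent.S2351
import Groth.Agent.S9690
import Groth.Agent.NeronHD.FiniteExt

/-!
# Characterisation of the normalization of an integral scheme
-/

set_option autoImplicit false
set_option linter.style.haveILetI false

universe u

open CategoryTheory CategoryTheory.Limits AlgebraicGeometry TopologicalSpace

noncomputable section

namespace Groth.Agent.NormChar

/-- An integral birational morphism onto a normal scheme is an isomorphism. -/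
theorem isIso_of_isIntegralHom {Y' Y : Scheme.{u}} [IsIntegral Y'] [IsIntegral Y]
    (hN : ∀ y : Y, IsIntegrallyClosed (Y.presheaf.stalk y)) (u : Y' ⟶ Y) [IsIntegralHom u]
    (hgen : u (genericPoint Y') = genericPoint Y)
    (hbir : IsIso (u.stalkMap (genericPoint Y'))) : IsIso u := by
  classical
  have key : ∀ (U : Y.Opens), IsAffineOpen U → IsIso (u ∣_ U) := by
    intro U hU
    rcases isEmpty_or_nonempty U with hUe | hUne
    · have h2 : IsEmpty ((u ⁻¹ᵁ U : Y'.Opens) : Scheme.{u}) :=
        ⟨fun x ↦ hUe.elim ⟨u x.1, x.2⟩⟩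
      have h1 : IsEmpty (U : Scheme.{u}) := hUe
      infer_instance
    have hη : genericPoint Y' ∈ u ⁻¹ᵁ U := by
      show u (genericPoint Y') ∈ U
      rw [hgen]
      exact ((genericPoint_spec Y).mem_open_set_iff U.isOpen).mpr (by simpa using hUne)
    have hV : IsAffineOpen (u ⁻¹ᵁ U) := hU.preimage u
    have : IsAffine (U : Scheme.{u}) := hU
    have : IsAffine ((u ⁻¹ᵁ U : Y'.Opens) : Scheme.{u}) := hV
    have : Nonempty (u ⁻¹ᵁ U : Y'.Opens) := ⟨⟨_, hη⟩⟩
    have hic : IsIntegrallyClosed Γ(Y, U) :=
      NormalSec.isIntegrallyClosed_sections U (fun y _ ↦ inferInstance) (fun y _ ↦ hN y)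
        fun b hb y hy h ↦ hb (germ_injective_of_isIntegral _ y hy (h.trans (map_zero _).symm))
    have hbij : Function.Bijective (u.app U) := by
      have hφ : Function.Bijective (u.stalkMap (genericPoint Y')).hom :=
        ConcreteCategory.bijective_of_isIso (u.stalkMap (genericPoint Y'))
      have hcomm : ∀ a, Y'.presheaf.germ _ _ hη (u.app U a) =
          (u.stalkMap (genericPoint Y')).hom (Y.presheaf.germ U _ hη a) := fun a ↦
        (Scheme.Hom.germ_stalkMap_apply u U (genericPoint Y') hη a).symm
      have hfrac : ∀ (p : Y) (hp : p ∈ U), p = genericPoint Y →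
          ∀ z : Y.presheaf.stalk p, (Y.presheaf.germ U p hp).hom.IsIntegralElem z →
            ∃ a, Y.presheaf.germ U p hp a = z := by
        intro p hp e z hz
        subst e
        have : IsFractionRing Γ(Y, U) Y.functionField :=
          functionField_isFractionRing_of_isAffineOpen Y U hU
        exact (isIntegrallyClosed_iff Y.functionField).mp hic (x := z) hz
      refine ⟨fun a a' h ↦ germ_injective_of_isIntegral _ (u (genericPoint Y')) hη
        (hφ.1 (by rw [← hcomm, ← hcomm, h])), fun b ↦ ?_⟩
      obtain ⟨z, hz⟩ := hφ.2 (Y'.presheaf.germ _ _ hη b)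
      obtain ⟨p, hp, hpb⟩ := (IsIntegralHom.isIntegral_app (f := u) U hU) b
      have hzint : (Y.presheaf.germ U _ hη).hom.IsIntegralElem z := by
        refine ⟨p, hp, hφ.1 ?_⟩
        rw [map_zero, Polynomial.hom_eval₂, hz]
        have e : (u.stalkMap (genericPoint Y')).hom.comp (Y.presheaf.germ U _ hη).hom =
            (Y'.presheaf.germ _ _ hη).hom.comp (u.app U).hom :=
          RingHom.ext fun a ↦ (hcomm a).symm
        rw [e, ← Polynomial.hom_eval₂, hpb, map_zero]
      obtain ⟨a, ha⟩ := hfrac (u (genericPoint Y')) hη hgen z hzint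
      refine ⟨a, germ_injective_of_isIntegral _ (genericPoint Y') hη ?_⟩
      rw [hcomm, ha, hz]
    have : IsIso (u.app U) := (ConcreteCategory.isIso_iff_bijective _).mpr hbij
    exact (isIso_morphismRestrict_iff_isIso_app u hU).mpr ‹_›
  exact IsZariskiLocalAtTarget.of_iSup_eq_top
    (P := MorphismProperty.isomorphisms Scheme) _ Y.isBasis_affineOpens.isOpenCover.iSup_eq_top
    fun U ↦ key U.1 U.2

variable (X : Scheme.{u}) [IsIntegral X] [QuasiCompact (X.fromSpecStalk (genericPoint X))]
  [QuasiSeparated (X.fromSpecStalk (genericPoint X))]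

/-- The normalization is integral, birational, with fibre one point over the generic point. -/
theorem normalization_spec :
    Pi1.IsNormalScheme (Curv2.normalization X) ∧ IsIntegralHom (Curv2.normalizationι X) ∧
      ∃ _ : IrreducibleSpace (Curv2.normalization X),
        (Curv2.normalizationι X).base ⁻¹' {genericPoint X} = {genericPoint (Curv2.normalization X)} ∧
          IsIso ((Curv2.normalizationι X).stalkMap (genericPoint (Curv2.normalization X))) := by
  obtain ⟨hI, hN, -, hgen, hres⟩ := S2351.result X
  haveI := Curv2Norm.isIntegralHom X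
  haveI := hI
  let ν := Curv2.normalizationι X
  let η := genericPoint (Curv2.normalization X)
  refine ⟨hN, inferInstance, inferInstance, Set.Subset.antisymm (fun y hy => ?_) ?_, ?_⟩
  · exact (AlgSpCov.IntegralDim.eq_of_specializes_of_apply_eq ν (genericPoint_specializes y)
      (hgen.trans hy.symm)).symm
  · rintro y rfl
    exact hgen
  · refine (ConcreteCategory.isIso_iff_bijective _).mpr ?_
    have hF : IsField (X.presheaf.stalk (ν η)) := by
      rw [show ν η = genericPoint X from hgen]; exact Field.toIsField X.functionField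
    letI := hF.toField
    have hinjX : Function.Injective (X.residue (ν η)).hom := RingHom.injective _
    have hinjN : Function.Injective ((Curv2.normalization X).residue η).hom :=
      RingHom.injective (((Curv2.normalization X).residue η).hom : (Curv2.normalization X).functionField →+* (Curv2.normalization X).residueField η)
    have hsq : ∀ a, (Curv2.normalization X).residue η (ν.stalkMap η a) =
        ν.residueFieldMap η (X.residue (ν η) a) := fun a =>
      (congr($(Scheme.residue_residueFieldMap ν η) a)).symm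
    refine ⟨fun a b h => hinjX (hres.1 ?_), fun b => ?_⟩
    · rw [← hsq, ← hsq, h]
    · obtain ⟨c, hc⟩ := hres.2 ((Curv2.normalization X).residue η b)
      obtain ⟨a, rfl⟩ := X.residue_surjective (ν η) c
      exact ⟨a, hinjN ((hsq a).trans hc)⟩

variable {X} {Y : Scheme.{u}} (f : Y ⟶ X)

/-- A normal integral birational cover is the normalization. -/
theorem exists_iso (hY : Pi1.IsNormalScheme Y) [IsIntegralHom f] [IrreducibleSpace Y]
    (hfib : f.base ⁻¹' {genericPoint X} = {genericPoint Y}) (hst : IsIso (f.stalkMap (genericPoint Y))) :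
    ∃ e : Y ≅ Curv2.normalization X, e.hom ≫ Curv2.normalizationι X = f := by
  haveI := NeronHD.isReduced_of_normal hY
  haveI : IsIntegral Y := isIntegral_of_irreducibleSpace_of_isReduced Y
  obtain ⟨hN, hint, hirr, hfibN, hstN⟩ := normalization_spec X
  haveI := Curv2Norm.isIntegral X
  haveI := hint
  let ν := Curv2.normalizationι X
  have hfη : f (genericPoint Y) = genericPoint X :=
    (Set.ext_iff.mp hfib (genericPoint Y)).mpr rfl
  obtain ⟨h, hh, -⟩ := S9690.result X f hY fun z hz => by
    rw [irreducibleComponents_eq_singleton] at hz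
    have : z = genericPoint Y := (show IsGenericPoint z Set.univ from hz).eq (genericPoint_spec Y)
    rw [this]
    exact hfη
  haveI : IsIntegralHom (h ≫ ν) := by rw [hh]; infer_instance
  haveI : IsIntegralHom h := MorphismProperty.of_postcomp (W := @IsIntegralHom) (W' := @IsSeparated) h ν
    inferInstance inferInstance
  have hhη : h (genericPoint Y) = genericPoint (Curv2.normalization X) := by
    refine (Set.ext_iff.mp hfibN (h (genericPoint Y))).mp ?_
    change (h ≫ ν) (genericPoint Y) = genericPoint X
    rw [hh]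
    exact hfη
  haveI : IsIso h := by
    refine isIso_of_isIntegralHom (fun y => (hN y).2) h hhη ?_
    haveI : IsIso (ν.stalkMap (h (genericPoint Y))) := by
      rw [hhη]; exact hstN
    have h1 : IsIso ((h ≫ ν).stalkMap (genericPoint Y)) := by rw [hh]; exact hst
    rw [Scheme.Hom.stalkMap_comp] at h1
    exact @IsIso.of_isIso_comp_left _ _ _ _ _ (ν.stalkMap (h (genericPoint Y))) _ inferInstance h1
  exact ⟨asIso h, hh⟩

/-- The normalization is an isomorphism over a normal open. -/
theorem isIso_over_normal (V : X.Opens) (hne : (V : Set X).Nonempty)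
    (hV : ∀ x ∈ V, IsIntegrallyClosed (X.presheaf.stalk x)) :
    IsIso (Curv2.normalizationι X ∣_ V) := by
  obtain ⟨hN, hint, hirr, hfibN, hstN⟩ := normalization_spec X
  haveI := Curv2Norm.isIntegral X
  haveI := hint
  let ν := Curv2.normalizationι X
  have hη : genericPoint X ∈ V := ((genericPoint_spec X).mem_open_set_iff V.isOpen).mpr (by simpa using hne)
  have hνη : ν (genericPoint (Curv2.normalization X)) = genericPoint X :=
    (Set.ext_iff.mp hfibN _).mpr rfl
  have hη' : genericPoint (Curv2.normalization X) ∈ ν ⁻¹ᵁ V := by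
    change ν _ ∈ V
    rw [hνη]; exact hη
  haveI : Nonempty V := ⟨⟨_, hη⟩⟩
  haveI : Nonempty (ν ⁻¹ᵁ V : (Curv2.normalization X).Opens) := ⟨⟨_, hη'⟩⟩
  haveI : IsIntegralHom (ν ∣_ V) := IsZariskiLocalAtTarget.restrict (P := @IsIntegralHom) hint V
  refine isIso_of_isIntegralHom (fun x => ?_) (ν ∣_ V) ?_ ?_
  · haveI := hV x.1 x.2
    exact IsIntegrallyClosed.of_equiv (V.stalkIso x).symm.commRingCatIsoToRingEquiv
  · refine V.ι.isOpenEmbedding.injective ?_
    rw [← Scheme.Hom.comp_apply, morphismRestrict_ι, Scheme.Hom.comp_apply,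
      genericPoint_eq_of_isOpenImmersion (ν ⁻¹ᵁ V).ι, genericPoint_eq_of_isOpenImmersion V.ι, hνη]
  · have e := morphismRestrictStalkMap ν V (genericPoint _)
    refine ((MorphismProperty.isomorphisms CommRingCat).arrow_mk_iso_iff e).mpr ?_
    change IsIso (ν.stalkMap ((ν ⁻¹ᵁ V).ι (genericPoint _)))
    rw [genericPoint_eq_of_isOpenImmersion (ν ⁻¹ᵁ V).ι]
    exact hstN

end Groth.Agent.NormChar

end

noncomputable section

namespace Groth.Agent.NormChar

/-- Normality transports along isomorphisms. -/
theorem isNormal_of_iso {A B : Scheme.{u}} (e : A ⟶ B) [IsIso e] (hB : Pi1.IsNormalScheme B) :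
    Pi1.IsNormalScheme A := fun a => by
  haveI := (hB (e a)).1
  haveI := (hB (e a)).2
  let E := (asIso (e.stalkMap a)).commRingCatIsoToRingEquiv
  exact ⟨MulEquiv.isDomain _ E.symm.toMulEquiv, IsIntegrallyClosed.of_equiv E⟩

theorem spec_of_iso {X Y N : Scheme.{u}} [IrreducibleSpace N] (e : Y ⟶ N) [IsIso e] (ν : N ⟶ X) (ξ : X)
    (hN : Pi1.IsNormalScheme N) (hfib : ν.base ⁻¹' {ξ} = {genericPoint N}) (hst : IsIso (ν.stalkMap (genericPoint N))) :
    Pi1.IsNormalScheme Y ∧
      ∃ _ : IrreducibleSpace Y, (e ≫ ν).base ⁻¹' {ξ} = {genericPoint Y} ∧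
        IsIso ((e ≫ ν).stalkMap (genericPoint Y)) := by
  haveI : IrreducibleSpace Y :=
    (e.homeomorph.irreducibleSpace_iff).mpr inferInstance
  have he := genericPoint_eq_of_isOpenImmersion e
  refine ⟨isNormal_of_iso e hN, inferInstance, Set.ext fun y => ?_, ?_⟩
  · change ν (e y) = ξ ↔ y = genericPoint Y
    have := Set.ext_iff.mp hfib (e y)
    simp only [Set.mem_preimage, Set.mem_singleton_iff] at this
    rw [this, ← he]
    exact e.homeomorph.injective.eq_iff
  · haveI : IsIso (ν.stalkMap (e (genericPoint Y))) := by rw [he]; exact hst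
    haveI h2 : IsIso (e.stalkMap (genericPoint Y)) := inferInstance
    rw [Scheme.Hom.stalkMap_comp]
    exact @IsIso.comp_isIso _ _ _ _ _ (ν.stalkMap (e (genericPoint Y))) (e.stalkMap (genericPoint Y)) this h2

/-- A morphism which is an isomorphism over a dense open with dense preimage is birational. -/
theorem birational_of_isIso_restrict {X Y : Scheme.{u}} [IsIntegral X] (f : Y ⟶ X) (U : X.Opens)
    (hU : Dense (U : Set X)) (hd : Dense ((f ⁻¹ᵁ U : Y.Opens) : Set Y)) [IsIso (f ∣_ U)] :
    ∃ _ : IrreducibleSpace Y, f.base ⁻¹' {genericPoint X} = {genericPoint Y} ∧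
      IsIso (f.stalkMap (genericPoint Y)) := by
  haveI : Nonempty U := hU.nonempty.to_subtype
  haveI : IrreducibleSpace U := inferInstanceAs (IrreducibleSpace (U : Scheme.{u}))
  haveI hirr : IrreducibleSpace (f ⁻¹ᵁ U : Y.Opens) :=
    ((f ∣_ U).homeomorph.irreducibleSpace_iff).mpr inferInstance
  haveI : IrreducibleSpace Y := (irreducibleSpace_def Y).mpr (by
    change IsIrreducible (Set.univ : Set Y)
    rw [← hd.closure_eq]
    have := (IrreducibleSpace.isIrreducible_univ (f ⁻¹ᵁ U : Y.Opens)).image Subtype.val
      continuous_subtype_val.continuousOn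
    rw [Set.image_univ] at this
    erw [Subtype.range_coe] at this
    exact this.closure)
  have hη : f (genericPoint Y) = genericPoint X := by
    have h1 := genericPoint_eq_of_isOpenImmersion (f ∣_ U)
    have h2 := congrArg U.ι h1
    rw [← Scheme.Hom.comp_apply, morphismRestrict_ι, Scheme.Hom.comp_apply,
      genericPoint_eq_of_isOpenImmersion (f ⁻¹ᵁ U).ι, genericPoint_eq_of_isOpenImmersion U.ι] at h2
    exact h2
  have hηU : genericPoint X ∈ U := ((genericPoint_spec X).mem_open_set_iff U.isOpen).mpr (by simpa using hU.nonempty)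
  have hηV : genericPoint Y ∈ f ⁻¹ᵁ U := by
    change f _ ∈ U
    rw [hη]; exact hηU
  refine ⟨inferInstance, Set.ext fun y => ⟨fun hy => ?_, fun hy => ?_⟩, ?_⟩
  · have hyV : y ∈ f ⁻¹ᵁ U := by
      change f y ∈ U
      rw [show f y = genericPoint X from hy]; exact hηU
    refine congrArg Subtype.val ((f ∣_ U).homeomorph.injective (a₁ := ⟨y, hyV⟩) (a₂ := ⟨_, hηV⟩) ?_)
    refine Subtype.ext ?_
    rw [Scheme.Hom.homeomorph_apply, Scheme.Hom.homeomorph_apply, morphismRestrict_base_coe, morphismRestrict_base_coe]
    change f y = f (genericPoint Y)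
    rw [hη]; exact hy
  · rw [Set.mem_singleton_iff] at hy
    rw [hy]; exact hη
  · have e := morphismRestrictStalkMap f U ⟨_, hηV⟩
    exact ((MorphismProperty.isomorphisms CommRingCat).arrow_mk_iso_iff e).mp inferInstance

end Groth.Agent.NormChar

end
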